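import Mathlib.GroupTheory.Index
import Mathlib.GroupTheory.Commutator.Basic
import Mathlib.GroupTheory.QuotientGroup.Basic
import Mathlib.FieldTheory.IsAlgClosed.Basic
import Mathlib.Algebra.CharP.Lemmas
import Groth.Agent.S17512

/-!
# Maximal level subgroups of the points of a finite theta group
-/

set_option autoImplicit false
set_option linter.style.haveILetI false

universe u

noncomputable section

namespace Groth.Agent.ThetaFin28

/-- The points of a non-degenerate theta group with finite constant quotient. -/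
structure TData (k : Type u) [Field k] [IsAlgClosed k] (Γ : Type u) [Group Γ] where
  ι : kˣ →* Γ
  hι : Function.Injective ι
  hcent : ι.range = Subgroup.center Γ
  hcomm : commutator Γ ≤ ι.range
  fin : Finite (Γ ⧸ ι.range)
  hcop : (Nat.card (Γ ⧸ ι.range)).Coprime (ringExpChar k)

variable {k : Type u} [Field k] [IsAlgClosed k] {Γ : Type u} [Group Γ] (D : TData k Γ)

theorem TData.comm_ι (z : kˣ) (g : Γ) : g * D.ι z = D.ι z * g :=
  Subgroup.mem_center_iff.mp (D.hcent ▸ ⟨z, rfl⟩) g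

instance : D.ι.range.Normal := by rw [D.hcent]; infer_instance

theorem TData.exists_e (g h : Γ) : ∃ c : kˣ, D.ι c = g * h * g⁻¹ * h⁻¹ :=
  D.hcomm (Subgroup.commutator_mem_commutator (Subgroup.mem_top g) (Subgroup.mem_top h))

/-- The commutator pairing. -/
def TData.e (g h : Γ) : kˣ := (D.exists_e g h).choose

theorem TData.ι_e (g h : Γ) : D.ι (D.e g h) = g * h * g⁻¹ * h⁻¹ := (D.exists_e g h).choose_spec

theorem TData.mul_comm_e (g h : Γ) : g * h = D.ι (D.e g h) * (h * g) := by rw [D.ι_e]; group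

theorem TData.e_eq_one_iff (g h : Γ) : D.e g h = 1 ↔ g * h = h * g := by
  rw [← D.hι.eq_iff, D.ι_e, map_one, mul_inv_eq_one, mul_inv_eq_iff_eq_mul]

theorem TData.e_mul_left (g g' h : Γ) : D.e (g * g') h = D.e g h * D.e g' h := by
  apply D.hι
  rw [map_mul, D.ι_e, D.ι_e g]
  calc g * g' * h * (g * g')⁻¹ * h⁻¹ = g * (g' * h * g'⁻¹ * h⁻¹) * (h * g⁻¹ * h⁻¹) := by group
    _ = g * D.ι (D.e g' h) * (h * g⁻¹ * h⁻¹) := by rw [D.ι_e]
    _ = g * (h * g⁻¹ * h⁻¹) * D.ι (D.e g' h) := by rw [mul_assoc g, ← D.comm_ι _ (h * g⁻¹ * h⁻¹), ← mul_assoc]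
    _ = _ := by group

/-- A maximal level subgroup. -/
structure MaxLevel where
  H : Subgroup Γ
  disj : H ⊓ D.ι.range = ⊥
  maxl : ∀ H' : Subgroup Γ, H' ⊓ D.ι.range = ⊥ → H ≤ H' → H' = H

theorem exists_maxLevel : Nonempty (MaxLevel D) := by
  classical
  haveI := D.fin
  let P : ℕ → Prop := fun n => ∃ H : Subgroup Γ, H ⊓ D.ι.range = ⊥ ∧ Nat.card H = n
  have hb : ∀ H : Subgroup Γ, H ⊓ D.ι.range = ⊥ →
      Finite H ∧ Nat.card H ≤ Nat.card (Γ ⧸ D.ι.range) := by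
    intro H hH
    have hinj : Function.Injective (fun h : H => ((h : Γ) : Γ ⧸ D.ι.range)) := fun a b hab => by
      have hm : (a : Γ)⁻¹ * b ∈ H ⊓ D.ι.range := ⟨H.mul_mem (H.inv_mem a.2) b.2, QuotientGroup.eq.mp hab⟩
      rw [hH, Subgroup.mem_bot, inv_mul_eq_one] at hm
      exact Subtype.ext hm
    exact ⟨Finite.of_injective _ hinj, Nat.card_le_card_of_injective _ hinj⟩
  have h0 : P (Nat.card (⊥ : Subgroup Γ)) := ⟨⊥, bot_inf_eq _, rfl⟩
  obtain ⟨H, hH, hcard⟩ := Nat.findGreatest_spec (P := P) (hb ⊥ (bot_inf_eq _)).2 h0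
  refine ⟨⟨H, hH, fun H' hH' hle => ?_⟩⟩
  haveI := (hb H' hH').1
  refine (SetLike.coe_injective ?_).symm
  refine Set.eq_of_subset_of_ncard_le hle ?_ (Set.toFinite _)
  rw [← Nat.card_coe_set_eq, ← Nat.card_coe_set_eq]
  exact (Nat.le_findGreatest (P := P) (hb H' hH').2 ⟨H', hH', rfl⟩).trans hcard.ge

variable {D} (M : MaxLevel D)

/-- `H ι(kˣ)`. -/
def MaxLevel.L : Subgroup Γ := (M.H.map (QuotientGroup.mk' D.ι.range)).comap (QuotientGroup.mk' D.ι.range)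

theorem MaxLevel.mem_L {x : Γ} : x ∈ M.L ↔ ∃ h ∈ M.H, ∃ z, x = D.ι z * h := by
  rw [MaxLevel.L, Subgroup.mem_comap, Subgroup.mem_map]
  refine ⟨fun ⟨h, hh, e⟩ => ?_, fun ⟨h, hh, z, e⟩ => ⟨h, hh, ?_⟩⟩
  · obtain ⟨z, hz⟩ : h⁻¹ * x ∈ D.ι.range := QuotientGroup.eq.mp e
    exact ⟨h, hh, z, by rw [← D.comm_ι, hz]; group⟩
  · show ((h : Γ) : Γ ⧸ D.ι.range) = (x : Γ)
    refine QuotientGroup.eq.mpr ⟨z, ?_⟩
    rw [e, ← D.comm_ι]; group

theorem MaxLevel.le_L : M.H ≤ M.L := fun h hh => M.mem_L.mpr ⟨h, hh, 1, by simp⟩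

theorem MaxLevel.range_le_L : D.ι.range ≤ M.L := fun _ ⟨z, hz⟩ =>
  M.mem_L.mpr ⟨1, M.H.one_mem, z, by simp [hz]⟩

theorem MaxLevel.H_comm {a b : Γ} (ha : a ∈ M.H) (hb : b ∈ M.H) : a * b = b * a := by
  have hm : a * b * a⁻¹ * b⁻¹ ∈ M.H ⊓ D.ι.range :=
    ⟨M.H.mul_mem (M.H.mul_mem (M.H.mul_mem ha hb) (M.H.inv_mem ha)) (M.H.inv_mem hb), D.e a b, D.ι_e a b⟩
  rw [M.disj, Subgroup.mem_bot, mul_inv_eq_one, mul_inv_eq_iff_eq_mul] at hm
  exact hm

theorem MaxLevel.L_comm {a b : Γ} (ha : a ∈ M.L) (hb : b ∈ M.L) : a * b = b * a := by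
  obtain ⟨h, hh, z, rfl⟩ := M.mem_L.mp ha
  obtain ⟨h', hh', w, rfl⟩ := M.mem_L.mp hb
  calc D.ι z * h * (D.ι w * h') = D.ι z * (h * D.ι w) * h' := by group
    _ = D.ι z * (D.ι w * h) * h' := by rw [D.comm_ι]
    _ = D.ι z * D.ι w * (h * h') := by group
    _ = D.ι w * D.ι z * (h' * h) := by rw [M.H_comm hh hh', ← map_mul, mul_comm z, map_mul]
    _ = D.ι w * (D.ι z * h') * h := by group
    _ = D.ι w * (h' * D.ι z) * h := by rw [D.comm_ι]
    _ = _ := by group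

instance : M.L.Normal := ⟨fun x hx g => by
  have h : g * x * g⁻¹ = D.ι (D.e g x) * x := by rw [D.ι_e]; group
  rw [h]; exact M.L.mul_mem (M.range_le_L ⟨_, rfl⟩) hx⟩

theorem MaxLevel.finite_quot : Finite (Γ ⧸ M.L) := by
  haveI := D.fin
  exact Finite.of_surjective (QuotientGroup.map D.ι.range M.L (MonoidHom.id Γ) (fun x hx => M.range_le_L hx))
    (QuotientGroup.map_surjective_of_surjective _ _ _ (by
      exact QuotientGroup.mk'_surjective _) _)

theorem MaxLevel.centralizer_L : M.L = Subgroup.centralizer (M.L : Set Γ) := by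
  refine le_antisymm (fun x hx => Subgroup.mem_centralizer_iff.mpr fun y hy => M.L_comm hy hx) fun g hg => ?_
  have hgL : ∀ y ∈ M.L, Commute y g := Subgroup.mem_centralizer_iff.mp hg
  haveI := M.finite_quot
  let n := orderOf (g : Γ ⧸ M.L)
  have hn : 0 < n := orderOf_pos _
  have hgn : g ^ n ∈ M.L := (QuotientGroup.eq_one_iff _).mp (by rw [QuotientGroup.mk_pow]; exact pow_orderOf_eq_one _)
  obtain ⟨h, hh, z, hz⟩ := M.mem_L.mp hgn
  obtain ⟨c, hc⟩ := IsAlgClosed.exists_pow_nat_eq (z : k) hn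
  have hc0 : c ≠ 0 := fun e => z.ne_zero (by rw [← hc, e, zero_pow hn.ne'])
  set g' := g * D.ι (Units.mk0 c hc0)⁻¹ with hg'
  have hg'n : g' ^ n = h := by
    rw [hg', Commute.mul_pow (D.comm_ι _ g), hz, ← map_pow, D.comm_ι, ← mul_assoc, ← map_mul]
    have : (Units.mk0 c hc0)⁻¹ ^ n * z = 1 := by
      ext; simp [hc]
    rw [this, map_one, one_mul]
  have hcm : ∀ y ∈ M.H, Commute y g' := fun y hy =>
    (hgL y (M.le_L hy)).mul_right (D.comm_ι _ y)
  let H' : Subgroup Γ :=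
    { carrier := {x | ∃ y ∈ M.H, ∃ j : ℤ, x = y * g' ^ j}
      one_mem' := ⟨1, M.H.one_mem, 0, by simp⟩
      mul_mem' := by
        rintro _ _ ⟨y, hy, i, rfl⟩ ⟨y', hy', j, rfl⟩
        refine ⟨y * y', M.H.mul_mem hy hy', i + j, ?_⟩
        rw [zpow_add, mul_assoc y, ← mul_assoc (g' ^ i), ← ((hcm y' hy').zpow_right i).eq]; group
      inv_mem' := by
        rintro _ ⟨y, hy, i, rfl⟩
        refine ⟨y⁻¹, M.H.inv_mem hy, -i, ?_⟩
        rw [mul_inv_rev, zpow_neg, ← (((hcm _ (M.H.inv_mem hy)).zpow_right i).inv_right).eq] }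
  have hle : M.H ≤ H' := fun y hy => ⟨y, hy, 0, by simp⟩
  have hdisj : H' ⊓ D.ι.range = ⊥ := by
    rw [eq_bot_iff]
    rintro _ ⟨⟨y, hy, j, rfl⟩, hw⟩
    have hgj : g' ^ j ∈ M.L := by
      have h1 : y⁻¹ * (y * g' ^ j) ∈ M.L := M.L.mul_mem (M.L.inv_mem (M.le_L hy)) (M.range_le_L hw)
      simpa using h1
    have hq : ((g : Γ) : Γ ⧸ M.L) = (g' : Γ) :=
      QuotientGroup.eq.mpr (by rw [hg', ← mul_assoc, inv_mul_cancel, one_mul]; exact M.range_le_L ⟨_, rfl⟩)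
    have hdvd : (n : ℤ) ∣ j := orderOf_dvd_iff_zpow_eq_one.mpr (by
      rw [hq, ← QuotientGroup.mk_zpow]; exact (QuotientGroup.eq_one_iff _).mpr hgj)
    obtain ⟨q, rfl⟩ := hdvd
    have : g' ^ ((n : ℤ) * q) ∈ M.H := by rw [zpow_mul, zpow_natCast, hg'n]; exact M.H.zpow_mem hh q
    rw [← M.disj]
    exact ⟨M.H.mul_mem hy this, hw⟩
  have hmem : g' ∈ M.H := by
    rw [← M.maxl H' hdisj hle]; exact ⟨1, M.H.one_mem, 1, by simp⟩
  have : g = g' * D.ι (Units.mk0 c hc0) := by rw [hg', mul_assoc, ← map_mul, inv_mul_cancel, map_one, mul_one]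
  rw [this]
  exact M.L.mul_mem (M.le_L hmem) (M.range_le_L ⟨_, rfl⟩)

theorem MaxLevel.card_facts :
    Finite M.H ∧ Nat.card (Γ ⧸ M.L) = Nat.card M.H ∧
      Nat.card (Γ ⧸ D.ι.range) = Nat.card M.H * Nat.card M.H := by
  haveI := D.fin
  set π := QuotientGroup.mk' D.ι.range
  have hinj : Function.Injective (fun h : M.H => π h) := fun a b hab => by
    have hm : (a : Γ)⁻¹ * b ∈ M.H ⊓ D.ι.range :=
      ⟨M.H.mul_mem (M.H.inv_mem a.2) b.2, QuotientGroup.eq.mp hab⟩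
    rw [M.disj, Subgroup.mem_bot, inv_mul_eq_one] at hm
    exact Subtype.ext hm
  have hfin : Finite M.H := Finite.of_injective _ hinj
  have hmap : Nat.card (M.H.map π) = Nat.card M.H := (Nat.card_congr (Equiv.ofBijective
    (fun h : M.H => (⟨π h, Subgroup.mem_map_of_mem π h.2⟩ : M.H.map π))
    ⟨fun a b e => hinj (congrArg Subtype.val e), by rintro ⟨_, y, hy, rfl⟩; exact ⟨⟨y, hy⟩, rfl⟩⟩)).symm
  have hidx : M.L.index = (M.H.map π).index :=
    Subgroup.index_comap_of_surjective _ (QuotientGroup.mk'_surjective _)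
  have h1 : D.ι.range.relIndex M.L * M.L.index = D.ι.range.index := Subgroup.relIndex_mul_index M.range_le_L
  have h2 : Nat.card M.H * M.L.index = D.ι.range.index := by
    rw [hidx, ← hmap, Subgroup.card_mul_index]; rfl
  have hidx0 : M.L.index ≠ 0 := by
    haveI := M.finite_quot; exact Subgroup.index_ne_zero_of_finite
  have hrel : D.ι.range.relIndex M.L = Nat.card M.H :=
    Nat.eq_of_mul_eq_mul_right (Nat.pos_of_ne_zero hidx0) (h1.trans h2.symm)
  obtain ⟨-, hsq⟩ := ((S17512.result k Γ D.ι D.hι D.hcent D.hcomm D.hcop M.L M.range_le_L).out 2 1).mp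
    M.centralizer_L
  rw [hrel, pow_two] at hsq
  exact ⟨hfin, Nat.eq_of_mul_eq_mul_left (n := Nat.card M.H) Nat.card_pos (h2.trans hsq.symm), hsq.symm⟩

theorem MaxLevel.card_cast_ne_zero : (Nat.card M.H : k) ≠ 0 := by
  obtain ⟨hfin, -, hK⟩ := M.card_facts
  obtain ⟨q, hq⟩ := ExpChar.exists k
  intro h0
  cases hq with
  | zero => exact absurd h0 (Nat.cast_ne_zero.mpr Nat.card_pos.ne')
  | prime hp =>
    have hdvd : q ∣ Nat.card M.H := (CharP.cast_eq_zero_iff k q _).mp h0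
    have hc := D.hcop
    haveI : ExpChar k q := ExpChar.prime hp
    rw [hK, ringExpChar.eq k q] at hc
    exact hp.not_dvd_one (hc.gcd_eq_one ▸ Nat.dvd_gcd (dvd_mul_of_dvd_left hdvd _) dvd_rfl)

/-- Character orthogonality for the pairing of `Γ ⧸ L` and `H`. -/
theorem MaxLevel.sum_e [Fintype (Γ ⧸ M.L)] (h : Γ) (hh : h ∈ M.H) [Decidable (h = 1)] :
    (∑ c : Γ ⧸ M.L, (D.e c.out h : k)) = if h = 1 then (Nat.card M.H : k) else 0 := by
  split_ifs with h1
  · subst h1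
    have : ∀ c : Γ ⧸ M.L, (D.e c.out 1 : k) = 1 := fun c => by rw [(D.e_eq_one_iff _ _).mpr (by simp)]; simp
    simp only [this, Finset.sum_const, Finset.card_univ, nsmul_eq_mul, mul_one]
    rw [← M.card_facts.2.1, Nat.card_eq_fintype_card]
  · obtain ⟨g, hg⟩ : ∃ g : Γ, D.e g h ≠ 1 := by
      by_contra hc
      push Not at hc
      have : h ∈ M.H ⊓ D.ι.range :=
        ⟨hh, D.hcent ▸ Subgroup.mem_center_iff.mpr fun g => (D.e_eq_one_iff g h).mp (hc g)⟩
      rw [M.disj, Subgroup.mem_bot] at this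
      exact h1 this
    have hsh : ∀ c : Γ ⧸ M.L, D.e ((g : Γ ⧸ M.L) * c).out h = D.e g h * D.e c.out h := fun c => by
      obtain ⟨l, hl⟩ : ∃ l ∈ M.L, ((g : Γ ⧸ M.L) * c).out = g * c.out * l := by
        refine ⟨(g * c.out)⁻¹ * ((g : Γ ⧸ M.L) * c).out, QuotientGroup.eq.mp ?_, by group⟩
        rw [QuotientGroup.out_eq', QuotientGroup.mk_mul, QuotientGroup.out_eq']
      rw [hl.2, D.e_mul_left, D.e_mul_left, (D.e_eq_one_iff l h).mpr (M.L_comm hl.1 (M.le_L hh)), mul_one]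
    have hs : (D.e g h : k) * ∑ c : Γ ⧸ M.L, (D.e c.out h : k) = ∑ c : Γ ⧸ M.L, (D.e c.out h : k) := by
      rw [Finset.mul_sum]
      conv_rhs => rw [← Equiv.sum_comp (Equiv.mulLeft (g : Γ ⧸ M.L)) (fun c : Γ ⧸ M.L => (D.e c.out h : k))]
      exact Finset.sum_congr rfl fun c _ => by simp [hsh c]
    rcases mul_left_eq_self₀.mp hs with h' | h'
    · exact absurd (Units.ext h') hg
    · exact h'

theorem MaxLevel.e_mul_left_L {g l h : Γ} (hl : l ∈ M.L) (hh : h ∈ M.H) : D.e (g * l) h = D.e g h := by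
  rw [D.e_mul_left, (D.e_eq_one_iff l h).mpr (M.L_comm hl (M.le_L hh)), mul_one]

end Groth.Agent.ThetaFin28
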