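import Groth.Agent.Lib.ThetaFin28.Rep

/-!
# Existence, uniqueness and complete reducibility in weight one
-/

set_option autoImplicit false
set_option linter.style.haveILetI false

universe u v w

noncomputable section

namespace Groth.Agent.ThetaFin28

attribute [local instance] Fintype.ofFinite

variable {k : Type u} [Field k] [IsAlgClosed k] {Γ : Type u} [Group Γ] {D : TData k Γ} (M : MaxLevel D)
  {V : Type v} [AddCommGroup V] [Module k V] {ρ : Representation k Γ V} (hρ : IsWeightOne D ρ)
  {W : Type w} [AddCommGroup W] [Module k W] {σ : Representation k Γ W} (hσ : IsWeightOne D σ)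

include hσ in
theorem MaxLevel.act_of_eq {x : Γ} {c d : Γ ⧸ M.L} {z : kˣ} {h : Γ} (hh : h ∈ M.H)
    (he : x * c.out = D.ι z * d.out * h) (u : W) (hu : u ∈ M.fixed σ) :
    σ x (σ c.out u) = (z : k) • σ d.out u := by
  rw [← apply_mul, he, apply_mul, apply_mul (D.ι z), hσ, show σ h u = u from hu ⟨h, hh⟩]

include hρ hσ in
/-- An isomorphism of the fixed spaces extends to an equivalence. -/
theorem MaxLevel.nonempty_equiv (L : M.fixed ρ ≃ₗ[k] M.fixed σ) : Nonempty (Representation.Equiv ρ σ) := by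
  classical
  let T : V ≃ₗ[k] W := (M.coord hρ).trans ((LinearEquiv.piCongrRight fun _ => L).trans (M.coord hσ).symm)
  have hT : ∀ (c : Γ ⧸ M.L) (u : M.fixed ρ), T (ρ c.out u) = σ c.out (L u) := fun c u => by
    show (M.coord hσ).symm (LinearEquiv.piCongrRight (fun _ => L) (M.coord hρ (ρ c.out u))) = _
    rw [← M.coord_symm_single hρ c u, LinearEquiv.apply_symm_apply]
    have : LinearEquiv.piCongrRight (fun _ : Γ ⧸ M.L => L) (Pi.single c u) = Pi.single c (L u) := by
      funext d
      by_cases hd : d = c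
      · subst hd; simp [LinearEquiv.piCongrRight_apply]
      · simp [LinearEquiv.piCongrRight_apply, Pi.single_eq_of_ne hd]
    rw [this, M.coord_symm_single hσ]
  refine ⟨Representation.Equiv.mk T fun g => ?_⟩
  refine LinearMap.ext fun v => ?_
  show T (ρ g v) = σ g (T v)
  conv_lhs => rw [← M.resolve hρ v]
  conv_rhs => rw [← M.resolve hρ v]
  simp only [map_sum]
  refine Finset.sum_congr rfl fun c _ => ?_
  set u : M.fixed ρ := ⟨_, M.avg_mem (ρ c.out⁻¹ v)⟩
  obtain ⟨z, d, -, ⟨h, hh, he⟩, e⟩ := M.act hρ g c u u.2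
  show T (ρ g (ρ c.out (u : V))) = σ g (T (ρ c.out (u : V)))
  rw [e, map_smul, hT, hT, M.act_of_eq hσ hh he _ (L u).2]

include hσ M in
theorem MaxLevel.isSemisimple : Representation.IsSemisimpleRepresentation σ := by
  classical
  refine ⟨fun U => ?_⟩
  obtain ⟨C, hC⟩ := Submodule.exists_isCompl (U.toSubmodule.comap (M.fixed σ).subtype)
  let U' : Subrepresentation σ :=
    ⟨Submodule.span k {w | ∃ (c : Γ ⧸ M.L) (u : M.fixed σ), u ∈ C ∧ w = σ c.out u}, fun g w hw => by
      induction hw using Submodule.span_induction with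
      | mem w hw =>
        obtain ⟨c, u, hu, rfl⟩ := hw
        obtain ⟨z, d, -, -, e⟩ := M.act hσ g c u u.2
        rw [e]
        exact Submodule.smul_mem _ _ (Submodule.subset_span ⟨d, u, hu, rfl⟩)
      | zero => simp
      | add a b _ _ ha hb => rw [map_add]; exact Submodule.add_mem _ ha hb
      | smul a b _ hb => rw [map_smul]; exact Submodule.smul_mem _ _ hb⟩
  have hcoord : ∀ w ∈ U'.toSubmodule, ∀ c, M.coord hσ w c ∈ C := by
    intro w hw
    induction hw using Submodule.span_induction with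
    | mem w hw =>
      obtain ⟨c', u, hu, rfl⟩ := hw
      intro c
      rw [← M.coord_symm_single hσ c' u, LinearEquiv.apply_symm_apply]
      by_cases hc : c = c'
      · subst hc; rwa [Pi.single_eq_same]
      · rw [Pi.single_eq_of_ne hc]; exact C.zero_mem
    | zero => intro c; rw [map_zero]; exact C.zero_mem
    | add a b _ _ ha hb => intro c; rw [map_add]; exact C.add_mem (ha c) (hb c)
    | smul a b _ hb => intro c; rw [map_smul]; exact C.smul_mem _ (hb c)
  have hU : ∀ w ∈ U.toSubmodule, ∀ c, ((M.coord hσ w c : M.fixed σ) : W) ∈ U.toSubmodule := by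
    intro w hw c
    show M.avg σ (σ c.out⁻¹ w) ∈ U.toSubmodule
    simp only [MaxLevel.avg, LinearMap.smul_apply, LinearMap.sum_apply]
    exact U.toSubmodule.smul_mem _ (U.toSubmodule.sum_mem fun h _ =>
      U.apply_mem_toSubmodule _ (U.apply_mem_toSubmodule _ hw))
  refine ⟨U', isCompl_iff.mpr ⟨?_, ?_⟩⟩
  · rw [disjoint_iff_inf_le]
    intro w hw
    obtain ⟨h1, h2⟩ := hw
    have hz : M.coord hσ w = 0 := funext fun c => by
      have := Submodule.mem_inf.mpr ⟨(show M.coord hσ w c ∈ U.toSubmodule.comap (M.fixed σ).subtype from hU w h1 c),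
        hcoord w h2 c⟩
      rw [hC.inf_eq_bot] at this
      exact (Submodule.mem_bot k).mp this
    show w ∈ (⊥ : Submodule k W)
    rw [Submodule.mem_bot]
    exact (M.coord hσ).map_eq_zero_iff.mp hz
  · rw [codisjoint_iff_le_sup]
    intro w _
    show w ∈ U.toSubmodule ⊔ U'.toSubmodule
    rw [← M.resolve hσ w]
    refine Submodule.sum_mem _ fun c _ => ?_
    have hm : (⟨_, M.avg_mem (σ c.out⁻¹ w)⟩ : M.fixed σ) ∈ U.toSubmodule.comap (M.fixed σ).subtype ⊔ C := by
      rw [hC.sup_eq_top]; trivial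
    obtain ⟨a, ha, b, hb, hab⟩ := Submodule.mem_sup.mp hm
    have hab' : (a : W) + b = M.avg σ (σ c.out⁻¹ w) := congrArg Subtype.val hab
    rw [← hab', map_add]
    exact Submodule.add_mem_sup (U.apply_mem_toSubmodule _ ha) (Submodule.subset_span ⟨c, b, hb, rfl⟩)

/-- The underlying space of the induced representation. -/
def MaxLevel.ind : Submodule k (Γ → k) where
  carrier := {f | ∀ (y : Γ) (z : kˣ), ∀ h ∈ M.H, f (y * (D.ι z * h)) = ((z⁻¹ : kˣ) : k) * f y}
  add_mem' hf hg y z h hh := by simp only [Pi.add_apply, hf y z h hh, hg y z h hh, mul_add]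
  zero_mem' y z h hh := by simp
  smul_mem' a f hf y z h hh := by simp only [Pi.smul_apply, smul_eq_mul, hf y z h hh]; ring

/-- The induced representation. -/
def MaxLevel.indRep : Representation k Γ M.ind where
  toFun g :=
    { toFun := fun f => ⟨fun y => (f : Γ → k) (g⁻¹ * y), fun y z h hh => by
        show (f : Γ → k) (g⁻¹ * (y * (D.ι z * h))) = _
        rw [← mul_assoc g⁻¹]; exact f.2 (g⁻¹ * y) z h hh⟩
      map_add' := fun _ _ => rfl
      map_smul' := fun _ _ => rfl }
  map_one' := LinearMap.ext fun f => Subtype.ext (funext fun y => by simp)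
  map_mul' g g' := LinearMap.ext fun f => Subtype.ext (funext fun y => by simp [mul_assoc])

theorem MaxLevel.indRep_weightOne : IsWeightOne D M.indRep := fun z f => Subtype.ext (funext fun y => by
  show (f : Γ → k) ((D.ι z)⁻¹ * y) = (z : k) * (f : Γ → k) y
  have h := f.2 y z⁻¹ 1 M.H.one_mem
  rw [mul_one, map_inv, inv_inv] at h
  rw [← h]
  congr 1
  rw [← map_inv]
  exact congrArg (f : Γ → k) (D.comm_ι z⁻¹ y).symm)

theorem MaxLevel.indRep_irreducible :
    FiniteDimensional k M.ind ∧ Representation.IsIrreducible M.indRep := by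
  classical
  let ev : M.ind →ₗ[k] (Γ ⧸ M.L → k) :=
    { toFun := fun f c => (f : Γ → k) c.out, map_add' := fun _ _ => rfl, map_smul' := fun _ _ => rfl }
  have hev : Function.Injective ev := by
    rw [injective_iff_map_eq_zero]
    intro f hf
    refine Subtype.ext (funext fun y => ?_)
    have hm : (QuotientGroup.mk y : Γ ⧸ M.L).out⁻¹ * y ∈ M.L := QuotientGroup.eq.mp (QuotientGroup.out_eq' _)
    obtain ⟨h, hh, z, e⟩ := M.mem_L.mp hm
    have h0 : (f : Γ → k) (QuotientGroup.mk y : Γ ⧸ M.L).out = 0 := congrFun hf (QuotientGroup.mk y : Γ ⧸ M.L)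
    have he : y = (QuotientGroup.mk y : Γ ⧸ M.L).out * (D.ι z * h) := by rw [← e]; group
    show (f : Γ → k) y = 0
    rw [he, f.2 _ z h hh, h0, mul_zero]
  haveI hfd : FiniteDimensional k M.ind := FiniteDimensional.of_injective ev hev
  have hle : Module.finrank k M.ind ≤ Nat.card M.H := by
    refine (LinearMap.finrank_le_finrank_of_injective hev).trans ?_
    rw [Module.finrank_pi, ← Nat.card_eq_fintype_card, M.card_facts.2.1]
  have huniq : ∀ (z z' : kˣ) (h h' : Γ), h ∈ M.H → h' ∈ M.H → D.ι z * h = D.ι z' * h' → z = z' := by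
    intro z z' h h' hh hh' e
    have hm : h' * h⁻¹ ∈ M.H ⊓ D.ι.range := ⟨M.H.mul_mem hh' (M.H.inv_mem hh), z'⁻¹ * z, by
      rw [map_mul, map_inv, inv_mul_eq_iff_eq_mul, eq_mul_inv_iff_mul_eq.mpr e, mul_assoc]⟩
    rw [M.disj, Subgroup.mem_bot, mul_inv_eq_one] at hm
    rw [hm] at e
    exact D.hι (mul_right_cancel e)
  let f0 : Γ → k := fun y => if hy : y ∈ M.L then (((M.mem_L.mp hy).choose_spec.2.choose)⁻¹ : kˣ) else 0
  have hf0 : f0 ∈ M.ind := by
    intro y z h hh
    have hin : D.ι z * h ∈ M.L := M.mem_L.mpr ⟨h, hh, z, rfl⟩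
    by_cases hy : y ∈ M.L
    · have hy' : y * (D.ι z * h) ∈ M.L := M.L.mul_mem hy hin
      simp only [f0, dif_pos hy, dif_pos hy']
      have s1 := (M.mem_L.mp hy).choose_spec
      have s2 := (M.mem_L.mp hy').choose_spec
      have e1 := s1.2.choose_spec
      have e2 := s2.2.choose_spec
      have : s2.2.choose = s1.2.choose * z := by
        refine huniq _ _ _ ((M.mem_L.mp hy).choose * h) s2.1 (M.H.mul_mem s1.1 hh) ?_
        rw [← e2]
        nth_rw 1 [e1]
        rw [map_mul, mul_assoc (D.ι _) (M.mem_L.mp hy).choose, ← mul_assoc (M.mem_L.mp hy).choose,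
          D.comm_ι z (M.mem_L.mp hy).choose]
        group
      rw [this, mul_inv, Units.val_mul, mul_comm]
    · have hy' : y * (D.ι z * h) ∉ M.L := fun h' => hy ((M.L.mul_mem_cancel_right hin).mp h')
      simp only [f0, dif_neg hy, dif_neg hy', mul_zero]
  have hne : (⟨f0, hf0⟩ : M.ind) ≠ 0 := fun e => by
    have h1 : f0 1 = 0 := congrFun (congrArg Subtype.val e) 1
    simp only [f0, dif_pos M.L.one_mem] at h1
    exact Units.ne_zero _ h1
  refine ⟨hfd, M.isIrreducible_of_finrank M.indRep_weightOne ?_⟩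
  have hf := M.finrank_eq M.indRep_weightOne
  have hpos : 0 < Module.finrank k M.ind := Module.finrank_pos_iff_exists_ne_zero.mpr ⟨_, hne⟩
  rw [hf] at hle hpos
  have h1 : Module.finrank k (M.fixed M.indRep) ≤ 1 :=
    Nat.le_of_mul_le_mul_right (by rw [one_mul]; exact hle) Nat.card_pos
  have h2 := Nat.pos_of_mul_pos_right hpos
  omega

end Groth.Agent.ThetaFin28
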