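import Groth.Agent.Lib.ThetaFin28.Level
import Mathlib.RepresentationTheory.Irreducible
import Mathlib.RepresentationTheory.Invariants
import Mathlib.RepresentationTheory.Semisimple
import Mathlib.LinearAlgebra.Dimension.Constructions

/-!
# Weight one representations: the structure through a maximal level subgroup
-/

set_option autoImplicit false
set_option linter.style.haveILetI false

universe u v

noncomputable section

namespace Groth.Agent.ThetaFin28

open Classical in
attribute [local instance] Fintype.ofFinite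

variable {k : Type u} [Field k] [IsAlgClosed k] {Γ : Type u} [Group Γ] {D : TData k Γ} (M : MaxLevel D)
  {W : Type v} [AddCommGroup W] [Module k W] (σ : Representation k Γ W)

/-- Weight one. -/
def IsWeightOne (D : TData k Γ) (σ : Representation k Γ W) : Prop := ∀ (z : kˣ) (w : W), σ (D.ι z) w = (z : k) • w

instance : Finite (Γ ⧸ M.L) := M.finite_quot

instance : Finite M.H := M.card_facts.1

/-- The fixed vectors of the level subgroup. -/
abbrev MaxLevel.fixed : Submodule k W := Representation.invariants (σ.comp M.H.subtype)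

/-- The averaging projector. -/
def MaxLevel.avg : W →ₗ[k] W := (Nat.card M.H : k)⁻¹ • ∑ h : M.H, σ h

variable {σ}

theorem apply_mul (g h : Γ) (w : W) : σ (g * h) w = σ g (σ h w) := by rw [map_mul]; rfl

theorem apply_inv (g : Γ) (w : W) : σ g⁻¹ (σ g w) = w := by rw [← apply_mul, inv_mul_cancel, map_one]; rfl

theorem apply_inv' (g : Γ) (w : W) : σ g (σ g⁻¹ w) = w := by rw [← apply_mul, mul_inv_cancel, map_one]; rfl

variable (hσ : IsWeightOne D σ)

theorem MaxLevel.avg_mem (w : W) : M.avg σ w ∈ M.fixed σ := by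
  intro h
  show σ h (M.avg σ w) = M.avg σ w
  simp only [MaxLevel.avg, LinearMap.smul_apply, LinearMap.sum_apply, map_smul, map_sum, ← apply_mul]
  congr 1
  exact Equiv.sum_comp (Equiv.mulLeft h) (fun x : M.H => σ (x : Γ) w)

theorem MaxLevel.avg_fixed (w : W) (hw : w ∈ M.fixed σ) : M.avg σ w = w := by
  have h1 : ∀ h : M.H, σ h w = w := hw
  simp only [MaxLevel.avg, LinearMap.smul_apply, LinearMap.sum_apply, h1, Finset.sum_const, Finset.card_univ]
  rw [← Nat.cast_smul_eq_nsmul k, smul_smul, ← Nat.card_eq_fintype_card, inv_mul_cancel₀ M.card_cast_ne_zero, one_smul]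

/-- The span of the translates of a fixed vector. -/
def MaxLevel.orbitSpan (σ : Representation k Γ W) (w : W) : Submodule k W :=
  Submodule.span k (Set.range fun c : Γ ⧸ M.L => σ c.out w)

include hσ

theorem comm_apply (g : Γ) (h : Γ) (w : W) : σ g (σ h w) = (D.e g h : k) • σ h (σ g w) := by
  rw [← apply_mul, ← apply_mul, D.mul_comm_e g h, apply_mul (D.ι _), hσ]

/-- `∑_c g_c ∘ P ∘ g_c⁻¹ = 1`. -/
theorem MaxLevel.resolve (w : W) : ∑ c : Γ ⧸ M.L, σ c.out (M.avg σ (σ c.out⁻¹ w)) = w := by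
  classical
  simp only [MaxLevel.avg, LinearMap.smul_apply, LinearMap.sum_apply, map_smul, map_sum, ← Finset.smul_sum]
  have h1 : ∀ (c : Γ ⧸ M.L) (h : M.H), σ c.out (σ h (σ c.out⁻¹ w)) = (D.e c.out h : k) • σ h w := fun c h => by
    rw [comm_apply hσ, apply_inv']
  simp only [h1]
  rw [Finset.sum_comm]
  simp only [← Finset.sum_smul, M.sum_e _ (Subtype.prop _), ite_smul, zero_smul]
  rw [show (∑ x : M.H, if (x : Γ) = 1 then (Nat.card M.H : k) • σ x w else 0) = (Nat.card M.H : k) • w by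
    rw [Finset.sum_eq_single (1 : M.H)]
    · simp
    · intro h _ hne
      exact if_neg fun e => hne (Subtype.ext e)
    · simp, smul_smul, inv_mul_cancel₀ M.card_cast_ne_zero, one_smul]

theorem MaxLevel.avg_apply_fixed (x : Γ) (w : W) (hw : w ∈ M.fixed σ) (hx : x ∉ M.L) :
    M.avg σ (σ x w) = 0 := by
  classical
  have h1 : ∀ h : M.H, σ h (σ x w) = (D.e h x : k) • σ x w := fun h => by
    rw [comm_apply hσ, show σ h w = w from hw h]
  simp only [MaxLevel.avg, LinearMap.smul_apply, LinearMap.sum_apply, h1, ← Finset.sum_smul]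
  obtain ⟨a, ha⟩ : ∃ a : M.H, D.e a x ≠ 1 := by
    by_contra hc
    push Not at hc
    refine hx ?_
    rw [M.centralizer_L]
    refine Subgroup.mem_centralizer_iff.mpr fun y hy => ?_
    obtain ⟨h, hh, z, rfl⟩ := M.mem_L.mp hy
    rw [← mul_assoc, D.comm_ι z x, mul_assoc, mul_assoc, (D.e_eq_one_iff h x).mp (hc ⟨h, hh⟩)]
  have hs : (D.e a x : k) * ∑ h : M.H, (D.e h x : k) = ∑ h : M.H, (D.e h x : k) := by
    rw [Finset.mul_sum]
    conv_rhs => rw [← Equiv.sum_comp (Equiv.mulLeft a) (fun h : M.H => (D.e h x : k))]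
    exact Finset.sum_congr rfl fun h _ => by simp [D.e_mul_left]
  rcases mul_left_eq_self₀.mp hs with h' | h'
  · exact absurd (Units.ext h') ha
  · rw [h', zero_smul, smul_zero]

/-- The coordinates `W ≅ (Γ ⧸ L → W^H)`. -/
def MaxLevel.coord : W ≃ₗ[k] (Γ ⧸ M.L → M.fixed σ) where
  toFun w c := ⟨M.avg σ (σ c.out⁻¹ w), M.avg_mem _⟩
  map_add' w w' := funext fun c => Subtype.ext (by simp)
  map_smul' a w := funext fun c => Subtype.ext (by simp)
  invFun u := ∑ c : Γ ⧸ M.L, σ c.out (u c : W)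
  left_inv w := M.resolve hσ w
  right_inv u := funext fun c => Subtype.ext (by
    show M.avg σ (σ c.out⁻¹ (∑ d : Γ ⧸ M.L, σ d.out (u d : W))) = u c
    rw [map_sum, map_sum, Finset.sum_eq_single c, apply_inv, M.avg_fixed _ (u c).2]
    · intro d _ hdc
      rw [← apply_mul]
      refine M.avg_apply_fixed hσ _ _ (u d).2 fun h => hdc ?_
      have := QuotientGroup.eq.mpr h
      rw [QuotientGroup.out_eq', QuotientGroup.out_eq'] at this
      exact this.symm
    · simp)

theorem MaxLevel.coord_symm_single [DecidableEq (Γ ⧸ M.L)] (c : Γ ⧸ M.L) (u : M.fixed σ) :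
    (M.coord hσ).symm (Pi.single c u) = σ c.out u := by
  show ∑ d : Γ ⧸ M.L, σ d.out ((Pi.single c u : Γ ⧸ M.L → M.fixed σ) d : W) = _
  rw [Finset.sum_eq_single c (fun d _ hd => by rw [Pi.single_eq_of_ne hd]; simp) (by simp), Pi.single_eq_same]

theorem MaxLevel.finrank_eq [FiniteDimensional k W] :
    Module.finrank k W = Module.finrank k (M.fixed σ) * Nat.card M.H := by
  rw [(M.coord hσ).finrank_eq, Module.finrank_pi_fintype, Finset.sum_const, Finset.card_univ, smul_eq_mul,
    ← Nat.card_eq_fintype_card, M.card_facts.2.1, mul_comm]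

/-- How `Γ` acts in coordinates. -/
theorem MaxLevel.act (x : Γ) (c : Γ ⧸ M.L) (u : W) (hu : u ∈ M.fixed σ) :
    ∃ (z : kˣ) (d : Γ ⧸ M.L), d = (x : Γ ⧸ M.L) * c ∧
      (∃ h ∈ M.H, x * c.out = D.ι z * d.out * h) ∧ σ x (σ c.out u) = (z : k) • σ d.out u := by
  set d : Γ ⧸ M.L := (x : Γ ⧸ M.L) * c
  have hm : d.out⁻¹ * (x * c.out) ∈ M.L := QuotientGroup.eq.mp (by
    rw [QuotientGroup.out_eq', QuotientGroup.mk_mul, QuotientGroup.out_eq'])
  obtain ⟨h, hh, z, e⟩ := M.mem_L.mp hm
  have he : x * c.out = D.ι z * d.out * h := by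
    rw [← D.comm_ι, mul_assoc, ← e]; group
  refine ⟨z, d, rfl, ⟨h, hh, he⟩, ?_⟩
  rw [← apply_mul, he, apply_mul, apply_mul (D.ι z), hσ, show σ h u = u from hu ⟨h, hh⟩]

theorem MaxLevel.fixed_ne_bot (U : Submodule k W) (hU : ∀ g : Γ, ∀ w ∈ U, σ g w ∈ U) (h0 : U ≠ ⊥) :
    ∃ w ∈ U, w ∈ M.fixed σ ∧ w ≠ 0 := by
  obtain ⟨w, hw, hw0⟩ := U.exists_mem_ne_zero_of_ne_bot h0
  by_contra hc
  push Not at hc
  refine hw0 ?_
  rw [← M.resolve hσ w]
  refine Finset.sum_eq_zero fun c _ => ?_
  rw [hc _ ?_ (M.avg_mem _), map_zero]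
  simp only [MaxLevel.avg, LinearMap.smul_apply, LinearMap.sum_apply]
  exact U.smul_mem _ (U.sum_mem fun h _ => hU _ _ (hU _ _ hw))

theorem MaxLevel.orbitSpan_invariant {w : W} (hw : w ∈ M.fixed σ) (g : Γ) :
    ∀ v ∈ M.orbitSpan σ w, σ g v ∈ M.orbitSpan σ w := by
  intro v hv
  induction hv using Submodule.span_induction with
  | mem v hv =>
    obtain ⟨c, rfl⟩ := hv
    obtain ⟨z, d, -, -, e⟩ := M.act hσ g c w hw
    show σ g (σ c.out w) ∈ _
    rw [e]
    exact Submodule.smul_mem _ _ (Submodule.subset_span ⟨d, rfl⟩)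
  | zero => simp
  | add a b _ _ ha hb => rw [map_add]; exact Submodule.add_mem _ ha hb
  | smul a b _ hb => rw [map_smul]; exact Submodule.smul_mem _ _ hb

theorem MaxLevel.mem_orbitSpan (w : W) (hw : w ∈ M.fixed σ) : w ∈ M.orbitSpan σ w := by
  obtain ⟨z, d, -, ⟨h, hh, hx⟩, e⟩ := M.act hσ (((1 : Γ) : Γ ⧸ M.L).out)⁻¹ ((1 : Γ) : Γ ⧸ M.L) w hw
  rw [apply_inv] at e
  have h2 := Submodule.smul_mem (M.orbitSpan σ w) (z : k)
    (Submodule.subset_span (R := k) (Set.mem_range_self (f := fun c : Γ ⧸ M.L => σ c.out w) d))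
  simp only [← e] at h2
  exact h2

theorem MaxLevel.finrank_fixed_eq_one [FiniteDimensional k W] (hirr : Representation.IsIrreducible σ) :
    Module.finrank k (M.fixed σ) = 1 := by
  have htop : (⊤ : Submodule k W) ≠ ⊥ := by
    intro h
    haveI := hirr
    have h1 : (⊥ : Subrepresentation σ) = ⊤ := Subrepresentation.toSubmodule_injective h.symm
    exact bot_ne_top h1
  obtain ⟨w, -, hw, hw0⟩ := M.fixed_ne_bot hσ ⊤ (fun _ _ _ => trivial) htop
  let U : Subrepresentation σ := ⟨M.orbitSpan σ w, fun g v hv => M.orbitSpan_invariant hσ hw g v hv⟩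
  have hUne : U ≠ ⊥ := fun h => hw0 (by
    have hm : w ∈ U.toSubmodule := M.mem_orbitSpan hσ w hw
    rw [h] at hm
    exact (Submodule.mem_bot k).mp hm)
  haveI := hirr
  have hUtop : M.orbitSpan σ w = ⊤ :=
    congrArg Subrepresentation.toSubmodule ((eq_bot_or_eq_top U).resolve_left hUne)
  refine finrank_eq_one ⟨w, hw⟩ (fun h => hw0 (congrArg Subtype.val h)) fun u => ?_
  have hu : (u : W) ∈ Submodule.span k ({w} : Set W) := by
    rw [← M.avg_fixed (u : W) u.2]
    obtain ⟨u, hu0⟩ := u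
    show M.avg σ u ∈ _
    clear hu0
    have hmem : u ∈ M.orbitSpan σ w := by rw [hUtop]; trivial
    induction hmem using Submodule.span_induction with
    | mem v hv =>
      obtain ⟨c, rfl⟩ := hv
      show M.avg σ (σ c.out w) ∈ _
      by_cases hc : c.out ∈ M.L
      · obtain ⟨h, hh, z, e⟩ := M.mem_L.mp hc
        rw [e, apply_mul, hσ, show σ h w = w from hw ⟨h, hh⟩, map_smul, M.avg_fixed w hw]
        exact Submodule.smul_mem _ _ (Submodule.mem_span_singleton_self w)
      · rw [M.avg_apply_fixed hσ _ _ hw hc]; exact Submodule.zero_mem _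
    | zero => simp
    | add a b _ _ ha hb => rw [map_add]; exact Submodule.add_mem _ ha hb
    | smul a b _ hb => rw [map_smul]; exact Submodule.smul_mem _ _ hb
  obtain ⟨a, ha⟩ := Submodule.mem_span_singleton.mp hu
  exact ⟨a, Subtype.ext ha⟩

theorem MaxLevel.isIrreducible_of_finrank [FiniteDimensional k W] (h1 : Module.finrank k (M.fixed σ) = 1) :
    Representation.IsIrreducible σ := by
  haveI : Nontrivial W := by
    refine Module.nontrivial_of_finrank_pos (R := k) ?_
    rw [M.finrank_eq hσ, h1, one_mul]; exact Nat.card_pos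
  refine
    { toNontrivial := ⟨⊥, ⊤, fun e => bot_ne_top (α := Submodule k W) (congrArg Subrepresentation.toSubmodule e)⟩
      eq_bot_or_eq_top := fun U => ?_ }
  by_cases h0 : U.toSubmodule = ⊥
  · exact Or.inl (Subrepresentation.toSubmodule_injective h0)
  · obtain ⟨w, hwU, hw, hw0⟩ := M.fixed_ne_bot hσ U.toSubmodule (fun g v hv => U.apply_mem_toSubmodule g hv) h0
    refine Or.inr (Subrepresentation.toSubmodule_injective ?_)
    show U.toSubmodule = ⊤
    rw [eq_top_iff]
    intro v _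
    rw [← M.resolve hσ v]
    refine U.toSubmodule.sum_mem fun c _ => U.apply_mem_toSubmodule _ ?_
    obtain ⟨a, ha⟩ := exists_smul_eq_of_finrank_eq_one h1 (x := (⟨w, hw⟩ : M.fixed σ))
      (fun e => hw0 (congrArg Subtype.val e)) ⟨_, M.avg_mem (σ c.out⁻¹ v)⟩
    have ha' : a • w = M.avg σ (σ c.out⁻¹ v) := congrArg Subtype.val ha
    rw [← ha']
    exact U.toSubmodule.smul_mem a hwU

end Groth.Agent.ThetaFin28
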